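/-
S5934, chunk PN: proper subgroups, and subgroups without elements of order 43.
-/
import Cfsg.Agent.H7.ME1

set_option autoImplicit false

namespace H10.ME

open H18.E7 (G M)
open Matrix Subgroup H7.ME

/-- submonoids of the finite group are subgroups -/
def sg (p : Submonoid G) : Subgroup G :=
  { p with inv_mem' := fun {g} h => (Submonoid.powers_le.2 h) (mem_powers_iff_mem_zpowers.2 (inv_mem (mem_zpowers g))) }

theorem cw_le {L : List (List ℕ)} {K : Subgroup G} (h : ∀ l ∈ L, wd l ∈ K) : cw L ≤ K :=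
  (closure_le _).2 (by rintro _ ⟨l, a, rfl⟩; exact h l a)

theorem cl_le {W : List ℕ} {K : Subgroup G} (h : ∀ l ∈ [0] :: gN W, wd l ∈ K) : closure ((Nn W : Set G) ∪ {x0}) ≤ K :=
  (closure_le _).2 (Set.union_subset (cw_le fun l a => h l (List.mem_cons_of_mem _ a))
    (Set.singleton_subset_iff.2 (wd_one 0 ▸ h [0] List.mem_cons_self : X 0 ∈ K)))

theorem ex_zip {α β : Type} {L : List α} {E : List β} (h : Nat.beq E.length L.length = true) {l : α} (hl : l ∈ L) :
    ∃ e, (l, e) ∈ L.zip E := by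
  rw [← List.map_fst_zip (l₁ := L) (l₂ := E) (Nat.eq_of_beq_eq_true h).ge] at hl
  obtain ⟨p, a, rfl⟩ := List.mem_map.1 hl
  exact ⟨p.2, a⟩

theorem pr (L : List (List ℕ)) (Θ r : ℕ) (h : prc L Θ r = true) : cw L ≠ ⊤ := fun e => by
  simp only [prc, Bool.and_eq_true, List.all_eq_true, Bool.not_eq_true'] at h
  let K : Subgroup G := sg ((Submonoid.centralizer {toM 56 56 Θ}).comap M)
  have k : ∀ g, g ∈ K ↔ M g * toM 56 56 Θ = toM 56 56 Θ * M g := fun g =>
    Submonoid.mem_centralizer_iff.trans (by simp [eq_comm])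
  have : cw L ≤ K := cw_le fun l a => (k _).2 (by
    have := eqm_eq (h.1 l a)
    rwa [toM_wma, toM_mul, ← M_wd] at this)
  refine eqm_ne h.2 (by decide) (by decide) ?_
  rw [toM_ap, toM_mul, ← M_wd, wd_one]
  exact (k _).1 (this (e ▸ mem_top _))

theorem pt (L T : List (List ℕ)) (es : List (List (List ℕ))) (r i j : ℕ) (h : prt L T es r i j = true) : cw L ≠ ⊤ := fun e => by
  simp only [prt, Bool.and_eq_true, List.all_eq_true, Bool.not_eq_true', wcm_iff, weq_iff] at h
  obtain ⟨⟨⟨h1, h2⟩, h3⟩, h4⟩ := h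
  have c : cw T ≤ centralizer (cw T : Set G) := cw_le fun t a g hg =>
    (cw_le (K := centralizer {wd t}) (fun t' b => mem_centralizer_singleton_iff.2 (h1 t' b t a).eq) hg _ rfl).symm
  have n : cw L ≤ normalizer (cw T : Set G) := cw_le fun l a => by
    obtain ⟨x, hx⟩ := ex_zip h2 a
    obtain ⟨k1, k2⟩ := h3 _ hx
    have : cw T ≤ (cw T).comap (MulAut.conj (wd l)).toMonoidHom := cw_le fun t b => by
      obtain ⟨y, hy⟩ := ex_zip k1 b
      have := k2 _ hy
      rw [wd_append, wd_append] at this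
      change wd l * wd t * (wd l)⁻¹ ∈ cw T
      rw [this, mul_inv_cancel_right]; exact iw_mem _ _
    refine mem_normalizer_fintype (S := (cw T : Set G)) fun n hn => ?_
    have k := this hn
    rwa [mem_comap, MulEquiv.coe_toMonoidHom, MulAut.conj_apply] at k
  have m : ∀ i, wd (T.getD i []) ∈ cw T := fun i => by simpa [iw] using iw_mem T [i]
  have := (mem_normalizer_iff.1 (n (e ▸ mem_top (X r))) _).1 (m i)
  refine Bool.false_ne_true (h4.symm.trans (wcm_iff.2 ?_))
  rw [wd_cons, wd_append, wd_one, ← mul_assoc]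
  rw [X_inv] at this
  exact c (m j) _ this

theorem nf (v : Fv) (f : FX) (W : List ℕ) (k S Ls : ℕ) (h : nfc ([0] :: gN W) k S Ls = true) (a : G)
    (ha : a ∈ closure ((Nn W : Set G) ∪ {x0})) : orderOf a ≠ 43 := fun o => by
  simp only [nfc, Bool.and_eq_true, List.all_eq_true, Bool.not_eq_true', frc_eq, Nat.ble_eq] at h
  obtain ⟨⟨h1, h2⟩, h3⟩ := h
  let R := LinearMap.range (toM 56 k S).mulVecLin
  let K : Subgroup G := sg
    { carrier := {g | ∀ x ∈ R, M g *ᵥ x ∈ R}
      one_mem' := fun x hx => by simpa using hx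
      mul_mem' := fun a b x hx => by rw [map_mul, ← mulVec_mulVec]; exact a _ (b x hx) }
  have : a ∈ K := cl_le (K := K) (fun l hl => by
    rintro _ ⟨x, rfl⟩
    have := eqm_eq (h3 l hl) (by decide) (by omega)
    rw [toM_wma _ _ (by omega), toM_mul _ _ _ (by decide) (by omega)] at this
    exact ⟨toM k k (H7.ME.mul 56 Ls (wma l S)) *ᵥ x, by rw [mulVecLin_apply, mulVecLin_apply, mulVec_mulVec, mulVec_mulVec, this]⟩) ha
  have k := f.2.2.2 a R ((LinearMap.finrank_range_le _).trans (by simpa using h1)) this (o ▸ pow_orderOf_eq_one a)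
  refine eqm_ne h2 (by decide) (by omega) ?_
  rw [toM_zero]
  exact ext_of_mulVec_single fun i => by
    rw [zero_mulVec]; exact v.a43 a o _ (by simpa only [pow_one] using k (toM 56 _ S *ᵥ Pi.single i 1) ⟨_, rfl⟩)

theorem toM_acc (b : ℕ → Bool) (T : ℕ → ℕ) (n : ℕ) : toM 56 8 (Nat.rec (motive := fun _ => ℕ) 0
    (fun j acc => cond (b j) (Nat.xor acc (T j)) acc) n) = ∑ j ∈ Finset.range n, (if b j then 1 else 0 : F) • toM 56 8 (T j) := by
  induction n with
  | zero => exact toM_zero _ _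
  | succ n ih =>
    rw [Finset.sum_range_succ, ← ih]
    change toM 56 8 (cond (b n) _ _) = _
    cases b n
    · simp
    · rw [cond_true, toM_xor, if_pos rfl, one_smul]

theorem nb (v : Fv) (W Bs Ts : List ℕ) (h : nbc ([0] :: gN W) Bs Ts = true) (a : G)
    (ha : a ∈ closure ((Nn W : Set G) ∪ {x0})) : orderOf a ≠ 43 := fun o => by
  simp only [nbc, Bool.and_eq_true, List.all_eq_true, Bool.not_eq_true', List.mem_range] at h
  obtain ⟨⟨h1, h2⟩, h3⟩ := h
  let bil (x y : Fin 8 → F) : V := ∑ i : Fin 8, x i • (toM 56 8 (Ts.getD i 0) *ᵥ y)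
  let P (g : G) (B : GL (Fin 8) F) : Prop := ∀ x y, M g *ᵥ bil x y = bil (B.1 *ᵥ x) (B.1 *ᵥ y)
  have p1 : P 1 1 := fun x y => by simp
  have pm : ∀ {g g' B B'}, P g B → P g' B' → P (g * g') (B * B') := fun a b x y => by
    rw [map_mul, ← mulVec_mulVec, b, a, Units.val_mul, mulVec_mulVec, mulVec_mulVec]
  let K : Subgroup G := sg
    { carrier := {g | ∃ B, P g B}
      one_mem' := ⟨1, p1⟩
      mul_mem' := fun ⟨_, a⟩ ⟨_, b⟩ => ⟨_, pm a b⟩ }
  obtain ⟨B, hB⟩ : a ∈ K := cl_le (K := K) (fun l hl => by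
    obtain ⟨B, hB⟩ := ex_zip h1 hl
    obtain ⟨k1, k2⟩ := h3 _ hB
    have e := eqm_eq k1
    rw [toM_mul, toM_Id] at e
    refine ⟨⟨_, _, e, e⟩, fun x y => ?_⟩
    have k : ∀ i : Fin 8, M (wd l) * toM 56 8 (Ts.getD i 0) =
        (∑ j : Fin 8, toM 8 8 B j i • toM 56 8 (Ts.getD j 0)) * toM 8 8 B := fun i => by
      have := eqm_eq (k2 i i.2)
      rwa [toM_wma, toM_mul, toM_acc (fun j => B.testBit (64 * i + j)) fun j => Ts.getD j 0, Finset.sum_range] at this
    simp only [bil, mulVec_sum, mulVec_smul, mulVec_mulVec, k]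
    simp only [← mulVec_mulVec, sum_mulVec, smul_mulVec, Finset.smul_sum, smul_smul]
    rw [Finset.sum_comm]
    refine Finset.sum_congr rfl fun j _ => ?_
    rw [← Finset.sum_smul]
    simp [mulVec, dotProduct, mul_comm]) ha
  have pw : ∀ n, P (a ^ n) (B ^ n) := fun n => by
    induction n with
    | zero => simpa only [pow_zero] using p1
    | succ n ih => rw [pow_succ, pow_succ]; exact pm ih hB
  have k := pw (Nat.card (GL (Fin 8) F))
  rw [pow_card_eq_one'] at k
  have o' : orderOf (a ^ Nat.card (GL (Fin 8) F)) = 43 := by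
    rw [Nat.Coprime.orderOf_pow, o]
    rw [o, Matrix.card_GL_field, ZMod.card]; decide +kernel
  refine eqm_ne h2 (by decide) (by decide) ?_
  rw [toM_zero]
  exact ext_of_mulVec_single fun i => by
    have := v.a43 _ o' _ (by simpa only [Units.val_one, one_mulVec] using k (Pi.single 0 1) (Pi.single i 1))
    rw [zero_mulVec]
    simpa [bil, Pi.single_apply, ite_smul] using this

theorem pn (v : Fv) (f : FX) : PN := ⟨pr, pt, nf v f, nb v⟩

end H10.ME
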